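import Groth.Agent.CAlgH.ElemGen

/-!
Over a field, `SL n` is connected by polynomial paths.
-/

set_option autoImplicit false

universe u

open Matrix Groth.Agent.CAlgH.ElemGen

namespace Groth.Agent.SLPath

variable {K : Type u} [Field K] {n : ℕ}

/-- Matrices joined to the identity by a path in `SL n`. -/
def H (K : Type u) [Field K] (n : ℕ) : Subgroup (GL (Fin n) K) where
  carrier := {g | ∃ M : SpecialLinearGroup (Fin n) (Polynomial K),
    SpecialLinearGroup.map (Polynomial.evalRingHom (0 : K)) M = 1 ∧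
    ((SpecialLinearGroup.map (Polynomial.evalRingHom (1 : K)) M : SpecialLinearGroup (Fin n) K) :
      Matrix (Fin n) (Fin n) K) = g}
  one_mem' := ⟨1, map_one _, by rw [map_one]; rfl⟩
  mul_mem' := by
    rintro a b ⟨M, hM0, hM1⟩ ⟨N, hN0, hN1⟩
    refine ⟨M * N, by rw [map_mul, hM0, hN0, one_mul], ?_⟩
    rw [map_mul]; exact (congrArg₂ (· * ·) hM1 hN1).trans rfl
  inv_mem' := by
    rintro a ⟨M, hM0, hM1⟩
    refine ⟨M⁻¹, by rw [map_inv, hM0, inv_one], ?_⟩
    rw [map_inv]
    have h1 : (a : Matrix (Fin n) (Fin n) K) * ((SpecialLinearGroup.map (Polynomial.evalRingHom (1 : K)) M)⁻¹ :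
        SpecialLinearGroup (Fin n) K) = 1 := by
      rw [← hM1]; exact congrArg Subtype.val (mul_inv_cancel (SpecialLinearGroup.map (Polynomial.evalRingHom (1 : K)) M))
    exact (Units.inv_eq_of_mul_eq_one_right h1).symm

theorem tGL_mem (i j : Fin n) (h : i ≠ j) (c : K) : tGL i j h c ∈ H K n := by
  refine ⟨⟨Matrix.transvection i j (Polynomial.C c * Polynomial.X), det_transvection_of_ne i j h _⟩,
    Subtype.ext ?_, ?_⟩
  · ext a b
    simp [Matrix.transvection, Matrix.one_apply, Matrix.single_apply, apply_ite (Polynomial.eval (0 : K))]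
  · ext a b
    simp [Matrix.transvection, Matrix.one_apply, Matrix.single_apply, apply_ite (Polynomial.eval (1 : K))]

theorem whitehead (i j : Fin n) (h : i ≠ j) (u : Kˣ) :
    dGL (Pi.mulSingle i u * Pi.mulSingle j u⁻¹) = tGL i j h (u : K) * (tGL j i h.symm (-((u⁻¹ : Kˣ) : K)) *
      (tGL i j h (u : K) * (tGL i j h (-1) * (tGL j i h.symm 1 * tGL i j h (-1))))) := by
  apply Units.ext
  simp only [Units.val_mul, tGL_val, dGL_val]
  ext a b
  have hu : (u : K) ≠ 0 := u.ne_zero
  rcases eq_or_ne a i with rfl | hai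
  · simp only [transvection_mul_apply_same, transvection_mul_apply_of_ne, h, h.symm, ne_eq, not_false_eq_true]
    rcases eq_or_ne b a with rfl | hba
    · simp [Matrix.transvection, Matrix.one_apply, Matrix.single_apply, h, h.symm, Pi.mulSingle_eq_of_ne] <;>
        field_simp
    rcases eq_or_ne b j with rfl | hbj
    · simp [Matrix.transvection, Matrix.one_apply, Matrix.single_apply, h, h.symm, Matrix.diagonal_apply_ne] <;>
        field_simp
    · simp [Matrix.transvection, Matrix.one_apply, Matrix.single_apply, h, h.symm, hba, hba.symm, hbj, hbj.symm,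
        Matrix.diagonal_apply_ne]
  rcases eq_or_ne a j with rfl | haj
  · simp only [transvection_mul_apply_same, transvection_mul_apply_of_ne, h, h.symm, ne_eq, not_false_eq_true]
    rcases eq_or_ne b a with rfl | hba
    · simp [Matrix.transvection, Matrix.one_apply, Matrix.single_apply, h, h.symm, Pi.mulSingle_eq_of_ne] <;>
        field_simp
    rcases eq_or_ne b i with rfl | hbi
    · simp [Matrix.transvection, Matrix.one_apply, Matrix.single_apply, h, h.symm, Matrix.diagonal_apply_ne] <;>
        field_simp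
    · simp [Matrix.transvection, Matrix.one_apply, Matrix.single_apply, h, h.symm, hba, hba.symm, hbi, hbi.symm,
        Matrix.diagonal_apply_ne]
  · simp only [transvection_mul_apply_of_ne, hai, haj, ne_eq, not_false_eq_true]
    rcases eq_or_ne a b with rfl | hab
    · simp [Matrix.transvection, Matrix.one_apply, Matrix.single_apply, hai, hai.symm, haj, haj.symm,
        Pi.mulSingle_eq_of_ne]
    · simp [Matrix.transvection, Matrix.one_apply, Matrix.single_apply, hai, hai.symm, haj, haj.symm, hab,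
        Matrix.diagonal_apply_ne]

theorem dGL_mem (i₀ : Fin n) (f : Fin n → Kˣ) (hf : ∏ i, f i = 1) : dGL f ∈ H K n := by
  classical
  have hz : f = ∏ i ∈ Finset.univ.erase i₀, (Pi.mulSingle i (f i) * Pi.mulSingle i₀ (f i)⁻¹) := by
    funext a
    rw [Finset.prod_apply]
    rcases eq_or_ne a i₀ with rfl | ha
    · rw [Finset.prod_congr rfl fun i hi => show (Pi.mulSingle i (f i) * Pi.mulSingle a (f i)⁻¹ : Fin n → Kˣ) a
        = (f i)⁻¹ by simp [Pi.mulSingle_eq_of_ne (Finset.ne_of_mem_erase hi).symm],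
        Finset.prod_inv_distrib, eq_inv_iff_mul_eq_one, Finset.mul_prod_erase _ _ (Finset.mem_univ a), hf]
    · rw [Finset.prod_eq_single a]
      · simp [Pi.mulSingle_eq_of_ne ha]
      · intro i _ hi; simp [Pi.mulSingle_eq_of_ne ha, Pi.mulSingle_eq_of_ne hi.symm]
      · simp [ha]
  show f ∈ (H K n).comap dGL
  rw [hz]
  refine Subgroup.prod_mem _ fun i hi => ?_
  rw [Subgroup.mem_comap, whitehead i i₀ (Finset.ne_of_mem_erase hi) (f i)]
  exact mul_mem (tGL_mem _ _ _ _) (mul_mem (tGL_mem _ _ _ _) (mul_mem (tGL_mem _ _ _ _)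
    (mul_mem (tGL_mem _ _ _ _) (mul_mem (tGL_mem _ _ _ _) (tGL_mem _ _ _ _)))))

theorem exists_path (r : ℕ) (A : SpecialLinearGroup (Fin (r + 1)) K) :
    ∃ M : SpecialLinearGroup (Fin (r + 1)) (Polynomial K),
      SpecialLinearGroup.map (Polynomial.evalRingHom (0 : K)) M = 1 ∧
      SpecialLinearGroup.map (Polynomial.evalRingHom (1 : K)) M = A := by
  let g : GL (Fin (r + 1)) K := SpecialLinearGroup.toGL A
  obtain ⟨d, h, hh, e⟩ := exists_mul_dGL (H K (r + 1)) (fun i j hij c => tGL_mem i j hij c) g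
  have hdet : Matrix.GeneralLinearGroup.det g = 1 := Units.ext A.det_coe
  have hdh : Matrix.GeneralLinearGroup.det h = 1 := by
    obtain ⟨M, -, hM⟩ := hh
    refine Units.ext ?_
    show Matrix.det (h : Matrix (Fin (r + 1)) (Fin (r + 1)) K) = 1
    rw [← hM]; exact Matrix.SpecialLinearGroup.det_coe _
  rw [e, map_mul, hdh, one_mul, det_dGL] at hdet
  have hg : g ∈ H K (r + 1) := e ▸ mul_mem hh (dGL_mem 0 d hdet)
  obtain ⟨M, h0, h1⟩ := hg
  exact ⟨M, h0, Subtype.ext h1⟩

end Groth.Agent.SLPath
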